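import Mathlib

/-!
# The classes of the subgroups of order 3: abstract part

The statement on seven classes of subgroups of order 3 is carried along an isomorphism; it follows from a class function
separating seven elements of order 3 to which every element of order 3 is conjugate; an element of order `p` is conjugate
into a subgroup whose order is the full power of `p`; and the elements of a group generated by `a₀, …, a₍ₖ₋₁₎` in which
each `aᵢ ^ 3` and each conjugate `aᵢ aⱼ aᵢ⁻¹` (`i < j`) is a normal word in the later generators are the normal words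
`a₀ ^ d₀ ⋯ a₍ₖ₋₁₎ ^ d₍ₖ₋₁₎` with digits `dᵢ < 3`.
-/

set_option autoImplicit false

namespace Cfsg.Agent.Lib.Lead.O73C

section transfer

variable {A B : Type*} [Group A] [Group B]

/-- the statement on the classes of the subgroups of order 3 -/
def SevenClasses (A : Type*) [Group A] : Prop :=
  ∃ Y : Fin 7 → Subgroup A, (∀ i, Nat.card (Y i) = 3) ∧
    (∀ i j, (∃ g : A, (Y i).map (MulAut.conj g).toMonoidHom = Y j) → i = j) ∧
    ∀ X : Subgroup A, Nat.card X = 3 → ∃ i, ∃ g : A, X.map (MulAut.conj g).toMonoidHom = Y i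

theorem map_conj_map (e : A ≃* B) (S : Subgroup A) (g : A) :
    (S.map e.toMonoidHom).map (MulAut.conj (e g)).toMonoidHom =
      (S.map (MulAut.conj g).toMonoidHom).map e.toMonoidHom := by
  rw [Subgroup.map_map, Subgroup.map_map]
  congr 1
  ext x
  simp [MulAut.conj_apply]

theorem SevenClasses.of_equiv (e : A ≃* B) (h : SevenClasses A) : SevenClasses B := by
  obtain ⟨Y, h1, h2, h3⟩ := h
  refine ⟨fun i => (Y i).map e.toMonoidHom, fun i => ?_, fun i j hij => ?_, fun X hX => ?_⟩
  · rw [← h1 i]
    exact Subgroup.card_map_of_injective e.injective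
  · obtain ⟨g, hg⟩ := hij
    apply h2 i j
    refine ⟨e.symm g, ?_⟩
    have h4 := map_conj_map e (Y i) (e.symm g)
    rw [MulEquiv.apply_symm_apply, hg] at h4
    exact (Subgroup.map_injective e.injective h4).symm
  · have hX' : Nat.card (X.map e.symm.toMonoidHom) = 3 := by
      rw [← hX]
      exact Subgroup.card_map_of_injective e.symm.injective
    obtain ⟨i, g, hg⟩ := h3 _ hX'
    refine ⟨i, e g, ?_⟩
    have hXe : X = (X.map e.symm.toMonoidHom).map e.toMonoidHom := by
      rw [Subgroup.map_map]
      have : e.toMonoidHom.comp e.symm.toMonoidHom = MonoidHom.id B := by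
        ext x; simp
      rw [this, Subgroup.map_id]
    rw [hXe, map_conj_map, hg]

end transfer

section classes

variable {H : Type*} [Group H]

theorem mem_zpowers_of_order_three {y x : H} (hy : orderOf y = 3) (hx : x ∈ Subgroup.zpowers y) :
    x = 1 ∨ x = y ∨ x = y⁻¹ := by
  obtain ⟨k, hk0⟩ := hx
  have hk0' : y ^ k = x := hk0
  rw [← hk0']
  have h3 : y ^ (3 : ℤ) = 1 := by
    have := pow_orderOf_eq_one y
    rw [hy] at this
    exact_mod_cast this
  have hk : y ^ k = y ^ (k % 3) := by
    conv_lhs => rw [← Int.emod_add_mul_ediv k 3, zpow_add, zpow_mul, h3, one_zpow, mul_one]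
  have h0 : 0 ≤ k % 3 := Int.emod_nonneg k (by norm_num)
  have h1 : k % 3 < 3 := Int.emod_lt_of_pos k (by norm_num)
  rw [hk]
  obtain h | h | h : k % 3 = 0 ∨ k % 3 = 1 ∨ k % 3 = 2 := by omega
  · left; rw [h, zpow_zero]
  · right; left; rw [h, zpow_one]
  · right; right
    rw [h]
    have : y ^ (2 : ℤ) * y = 1 := by
      rw [← zpow_add_one]; exact h3
    exact eq_inv_of_mul_eq_one_left this

/-- seven elements of order 3, separated by a class function invariant under inversion, to which every element of
order 3 is conjugate, give the seven classes of subgroups of order 3 -/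
theorem sevenClasses_of_invariant {ι : Type*} (I : H → ι) (hconj : ∀ g x : H, I (g * x * g⁻¹) = I x)
    (hinv : ∀ x : H, I x⁻¹ = I x) (y : Fin 7 → H) (hI : ∀ i j, I (y i) = I (y j) → i = j)
    (hy : ∀ i, orderOf (y i) = 3)
    (hall : ∀ x : H, orderOf x = 3 → ∃ i, ∃ g : H, g * x * g⁻¹ = y i) : SevenClasses H := by
  refine ⟨fun i => Subgroup.zpowers (y i), fun i => ?_, fun i j hij => ?_, fun X hX => ?_⟩
  · rw [Nat.card_zpowers, hy i]
  · obtain ⟨g, hg⟩ := hij
    have hg' : (Subgroup.zpowers (y i)).map (MulAut.conj g).toMonoidHom = Subgroup.zpowers (y j) := hg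
    have h1 : g * y i * g⁻¹ ∈ Subgroup.zpowers (y j) := by
      rw [← hg']
      exact ⟨y i, Subgroup.mem_zpowers _, rfl⟩
    have hne : g * y i * g⁻¹ ≠ 1 := by
      intro h
      have : y i = 1 := by
        have := congrArg (fun z => g⁻¹ * z * g) h
        simpa [mul_assoc] using this
      have h3 := hy i
      rw [this, orderOf_one] at h3
      norm_num at h3
    apply hI
    rcases mem_zpowers_of_order_three (hy j) h1 with h | h | h
    · exact absurd h hne
    · rw [← hconj g (y i), h]
    · rw [← hconj g (y i), h, hinv]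
  · have hp : Fact (Nat.Prime 3) := ⟨by norm_num⟩
    have hfin : Finite X := Nat.finite_of_card_ne_zero (by rw [hX]; norm_num)
    have hcyc : IsCyclic X := isCyclic_of_prime_card hX
    obtain ⟨x, hx⟩ := hcyc.exists_generator
    have hox : orderOf x = 3 := by
      rw [orderOf_eq_card_of_forall_mem_zpowers hx, hX]
    have hox' : orderOf (x : H) = 3 := by rw [Subgroup.orderOf_coe, hox]
    obtain ⟨i, g, hg⟩ := hall x hox'
    refine ⟨i, g, ?_⟩
    have hXz : X = Subgroup.zpowers (x : H) := by
      ext z
      constructor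
      · intro hz
        obtain ⟨k, hk⟩ := hx ⟨z, hz⟩
        exact ⟨k, by simpa using congrArg Subtype.val hk⟩
      · rintro ⟨k, rfl⟩
        exact X.zpow_mem x.2 k
    rw [hXz, MonoidHom.map_zpowers]
    show Subgroup.zpowers (g * x * g⁻¹) = _
    rw [hg]

end classes

section sylow

variable {H : Type*} [Group H] [Finite H]

/-- an element of order `p` is conjugate into a subgroup whose order is the full power of `p` -/
theorem exists_conj_mem_of_card (p k m : ℕ) [hp : Fact p.Prime] (U : Subgroup H) (hU : Nat.card U = p ^ k)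
    (hH : Nat.card H = p ^ k * m) (hm : ¬ p ∣ m) (x : H) (hx : orderOf x = p) : ∃ g : H, g * x * g⁻¹ ∈ U := by
  have hfac : (Nat.card H).factorization p = k := by
    rw [hH, Nat.factorization_mul (pow_ne_zero _ hp.out.ne_zero) (fun h => hm (by rw [h]; exact dvd_zero p)),
      Nat.factorization_pow]
    simp [hp.out.factorization_self, Nat.factorization_eq_zero_of_not_dvd hm]
  let S : Sylow p H := Sylow.ofCard U (by rw [hU, hfac])
  have hxp : IsPGroup p (Subgroup.zpowers x) := IsPGroup.of_card (n := 1) (by rw [Nat.card_zpowers, hx, pow_one])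
  obtain ⟨Q, hQ⟩ := hxp.exists_le_sylow
  obtain ⟨g, hg⟩ := MulAction.exists_smul_eq H Q S
  refine ⟨g, ?_⟩
  have h1 : x ∈ (Q : Subgroup H) := hQ (Subgroup.mem_zpowers x)
  have h2 : g * x * g⁻¹ ∈ ((g • Q : Sylow p H) : Subgroup H) := by
    rw [Sylow.coe_subgroup_smul]
    exact (Subgroup.mem_smul_pointwise_iff_exists _ _ _).2 ⟨x, h1, rfl⟩
  rw [hg] at h2
  exact h2

end sylow

section normalForm

variable {H : Type*} [Group H]

/-- the normal word `a₀ ^ d₀ * (a₁ ^ d₁ * ⋯)` whose digits are those of `e` in base 3 -/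
def elG : List H → ℕ → H
  | [], _ => 1
  | a :: l, e => a ^ (e % 3) * elG l (e / 3)

/-- the set of the normal words -/
def NF (l : List H) : Set H := {x | ∃ e < 3 ^ l.length, x = elG l e}

/-- the cube of each element of the list and its conjugates of the later elements are normal words in the later
elements -/
def PCOK : List H → Prop
  | [] => True
  | a :: l => a ^ 3 ∈ NF l ∧ (∀ b ∈ l, a * b * a⁻¹ ∈ NF l) ∧ PCOK l

theorem elG_mem : ∀ (l : List H) (e : ℕ), elG l e ∈ Subgroup.closure {g | g ∈ l}
  | [], _ => Subgroup.one_mem _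
  | a :: l, e => by
    rw [elG]
    have ha : a ∈ Subgroup.closure {g | g ∈ a :: l} :=
      Subgroup.subset_closure (show a ∈ {g | g ∈ a :: l} from List.mem_cons_self)
    have hl : Subgroup.closure {g | g ∈ l} ≤ Subgroup.closure {g | g ∈ a :: l} :=
      Subgroup.closure_mono (fun g (hg : g ∈ l) => (List.mem_cons_of_mem _ hg : g ∈ a :: l))
    exact Subgroup.mul_mem _ (Subgroup.pow_mem _ ha _) (hl (elG_mem l (e / 3)))

theorem NF_subset (l : List H) : NF l ⊆ Subgroup.closure {g | g ∈ l} := by
  rintro x ⟨e, _, rfl⟩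
  exact elG_mem l e

theorem closure_subset_NF [Finite H] (l : List H) :
    PCOK l → ∀ x ∈ Subgroup.closure {g | g ∈ l}, x ∈ NF l := by
  induction l with
  | nil =>
    intro _ x hx
    have : {g : H | g ∈ ([] : List H)} = ∅ := by ext g; simp
    rw [this, Subgroup.closure_empty, Subgroup.mem_bot] at hx
    exact ⟨0, by simp, by rw [hx, elG]⟩
  | cons a l ih0 =>
    intro h x hx
    obtain ⟨hz0, hb0, hl⟩ := h
    have ih := ih0 hl
    set K' : Subgroup H := Subgroup.closure {g | g ∈ l} with hK'
    have hz : a ^ 3 ∈ K' := NF_subset l hz0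
    have hb : ∀ b ∈ l, a * b * a⁻¹ ∈ K' := fun b hb => NF_subset l (hb0 b hb)
    have hconj : ∀ w ∈ K', a * w * a⁻¹ ∈ K' := by
      intro w hw
      induction hw using Subgroup.closure_induction with
      | mem y hy => exact hb y hy
      | one => simp
      | mul y z _ _ hy hz' =>
        have : a * (y * z) * a⁻¹ = (a * y * a⁻¹) * (a * z * a⁻¹) := by group
        rw [this]; exact K'.mul_mem hy hz'
      | inv y _ hy =>
        have : a * y⁻¹ * a⁻¹ = (a * y * a⁻¹)⁻¹ := by group
        rw [this]; exact K'.inv_mem hy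
    have hconj' : ∀ w ∈ K', a⁻¹ * w * a ∈ K' := by
      intro w hw
      have : a⁻¹ * w * a = (a ^ 3)⁻¹ * (a * (a * w * a⁻¹) * a⁻¹) * a ^ 3 := by group
      rw [this]
      exact K'.mul_mem (K'.mul_mem (K'.inv_mem hz) (hconj _ (hconj _ hw))) hz
    have hpow : ∀ d : ℕ, ∀ w ∈ K', (a ^ d)⁻¹ * w * a ^ d ∈ K' := by
      intro d
      induction d with
      | zero => intro w hw; simpa using hw
      | succ d ihd =>
        intro w hw
        have : (a ^ (d + 1))⁻¹ * w * a ^ (d + 1) = a⁻¹ * ((a ^ d)⁻¹ * w * a ^ d) * a := by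
          rw [pow_succ]; group
        rw [this]
        exact hconj' _ (ihd w hw)
    let T : Set H := {x | ∃ d < 3, ∃ w ∈ K', x = a ^ d * w}
    have hT1 : (1 : H) ∈ T := ⟨0, by norm_num, 1, K'.one_mem, by simp⟩
    have hTmul : ∀ g ∈ a :: l, ∀ t ∈ T, g * t ∈ T := by
      intro g hg t ht
      obtain ⟨d, hd, w, hw, rfl⟩ := ht
      rcases List.mem_cons.1 hg with rfl | hg
      · by_cases hd2 : d = 2
        · subst hd2
          refine ⟨0, by norm_num, g ^ 3 * w, K'.mul_mem hz hw, ?_⟩
          group
        · refine ⟨d + 1, by omega, w, hw, ?_⟩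
          rw [pow_succ']
          group
      · have hgK : g ∈ K' := Subgroup.subset_closure hg
        refine ⟨d, hd, ((a ^ d)⁻¹ * g * a ^ d) * w, K'.mul_mem (hpow d g hgK) hw, ?_⟩
        group
    have hS : ∀ g ∈ Submonoid.closure {g | g ∈ a :: l}, ∀ t ∈ T, g * t ∈ T := by
      let M : Submonoid H :=
        { carrier := {g | ∀ t ∈ T, g * t ∈ T}
          one_mem' := fun t ht => by rwa [one_mul]
          mul_mem' := fun {u v} hu hv t ht => by rw [mul_assoc]; exact hu _ (hv t ht) }
      have hM : Submonoid.closure {g | g ∈ a :: l} ≤ M := Submonoid.closure_le.2 fun g hg => hTmul g hg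
      exact fun g hg => hM hg
    have hxT : x ∈ T := by
      have hx' : x ∈ Submonoid.closure {g | g ∈ a :: l} := by
        rw [← Subgroup.closure_toSubmonoid_of_finite]; exact hx
      have := hS x hx' 1 hT1
      rwa [mul_one] at this
    obtain ⟨d, hd, w, hw, rfl⟩ := hxT
    obtain ⟨e', he', rfl⟩ := ih w hw
    refine ⟨d + 3 * e', ?_, ?_⟩
    · rw [List.length_cons, pow_succ]; omega
    · rw [elG]
      have h1 : (d + 3 * e') % 3 = d := by omega
      have h2 : (d + 3 * e') / 3 = e' := by omega
      rw [h1, h2]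

/-- the group generated by the list has at most `3 ^ k` elements -/
theorem card_closure_le [Finite H] (l : List H) (h : PCOK l) :
    Nat.card (Subgroup.closure {g | g ∈ l}) ≤ 3 ^ l.length := by
  classical
  have hsub : ((Subgroup.closure {g | g ∈ l} : Subgroup H) : Set H) ⊆
      ((Finset.range (3 ^ l.length)).image (elG l) : Finset H) := by
    intro x hx
    obtain ⟨e, he, rfl⟩ := closure_subset_NF l h x hx
    rw [Finset.mem_coe, Finset.mem_image]
    exact ⟨e, Finset.mem_range.2 he, rfl⟩
  have h1 := Set.ncard_le_ncard hsub (Finset.finite_toSet _)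
  rw [Set.ncard_coe_finset] at h1
  have h2 : Nat.card (Subgroup.closure {g | g ∈ l}) =
      ((Subgroup.closure {g | g ∈ l} : Subgroup H) : Set H).ncard :=
    Nat.card_coe_set_eq ((Subgroup.closure {g | g ∈ l} : Subgroup H) : Set H)
  calc Nat.card (Subgroup.closure {g | g ∈ l}) = _ := h2
    _ ≤ _ := h1
    _ ≤ (Finset.range (3 ^ l.length)).card := Finset.card_image_le
    _ = 3 ^ l.length := Finset.card_range _

end normalForm

end Cfsg.Agent.Lib.Lead.O73C
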