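import Cfsg.Agent.Lib.Lead.O73C.Data

/-!
# Checks by computation for the classes of elements of order 3 of `Ω₇(3)` on 351 points
-/

set_option autoImplicit false
set_option maxRecDepth 100000

namespace Cfsg.Agent.Lib.Lead.O73C

open Cfsg.Agent.PG

theorem chk_slp : (run 351 prog cgD).take 12 = cM := by decide +kernel

theorem chk_take : cM.take 9 = cA := by decide +kernel

theorem chk_pc : pcOK 351 cA rsD qsD = true := by decide +kernel

theorem chk_chain : chainOK 351 [] chainB (chainE.map (List.map (el 351 cA))) = true := by decide +kernel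

theorem chk_prod : (chainE.map List.length).prod = 3 ^ cA.length := by decide +kernel

/-- the representatives have order 3 -/
theorem chk_reps : repsD.all (fun e => Nat.beq (ppow 351 (el 351 cA e) 3) (pone 351) &&
    !(Nat.beq (el 351 cA e) (pone 351))) = true := by decide +kernel

theorem chk_q0 : allB 4000 (fun i => qOK 351 cA cM repsD candsD chainB 9 19683 LAY MV TGT i) = true := by
  decide +kernel

theorem chk_q1 : allB 4000 (fun i => qOK 351 cA cM repsD candsD chainB 9 19683 LAY MV TGT (i + 4000)) = true := by
  decide +kernel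

theorem chk_q2 : allB 4000 (fun i => qOK 351 cA cM repsD candsD chainB 9 19683 LAY MV TGT (i + 8000)) = true := by
  decide +kernel

theorem chk_q3 : allB 4000 (fun i => qOK 351 cA cM repsD candsD chainB 9 19683 LAY MV TGT (i + 12000)) = true := by
  decide +kernel

theorem chk_q4 : allB 3683 (fun i => qOK 351 cA cM repsD candsD chainB 9 19683 LAY MV TGT (i + 16000)) = true := by
  decide +kernel

theorem chk_q : ∀ e < 19683, qOK 351 cA cM repsD candsD chainB 9 19683 LAY MV TGT e = true := by
  intro e he
  have h0 := allB_iff.1 chk_q0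
  have h1 := allB_iff.1 chk_q1
  have h2 := allB_iff.1 chk_q2
  have h3 := allB_iff.1 chk_q3
  have h4 := allB_iff.1 chk_q4
  rcases Nat.lt_or_ge e 4000 with c | c
  · exact h0 e c
  rcases Nat.lt_or_ge e 8000 with c' | c'
  · have := h1 (e - 4000) (by omega)
    rwa [Nat.sub_add_cancel c] at this
  rcases Nat.lt_or_ge e 12000 with c'' | c''
  · have := h2 (e - 8000) (by omega)
    rwa [Nat.sub_add_cancel c'] at this
  rcases Nat.lt_or_ge e 16000 with c''' | c'''
  · have := h3 (e - 12000) (by omega)
    rwa [Nat.sub_add_cancel c''] at this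
  · have := h4 (e - 16000) (by omega)
    rwa [Nat.sub_add_cancel c'''] at this

end Cfsg.Agent.Lib.Lead.O73C
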