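import Cfsg.Agent.Lib.Lead.O73C.Abstract
import Cfsg.Agent.Lib.Lead.PG.Pow
import Cfsg.Agent.Lib.Lead.PG.Chain

/-!
# Normal words on codes of permutations

The codes of the normal words `a₀ ^ d₀ ⋯` of a list of permutations given by their codes, their values at a point by
table lookups, the test of the power and conjugation relations, and the test that reduces every element of order 3 of
the group generated by the list, by conjugations with given elements, to a list of representatives.
-/

set_option autoImplicit false

namespace Cfsg.Agent.Lib.Lead.O73C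

open Cfsg.Agent.PG

/-- the code of the normal word -/
def el (n : ℕ) : List ℕ → ℕ → ℕ
  | [], _ => pone n
  | c :: cs, e =>
    cond (Nat.beq (e % 3) 0) (el n cs (e / 3))
      (cond (Nat.beq (e % 3) 1) (pmul n c (el n cs (e / 3))) (pmul n c (pmul n c (el n cs (e / 3)))))

/-- the value of the normal word at a point -/
def evp : List ℕ → ℕ → ℕ → ℕ
  | [], _, p => p
  | c :: cs, e, p =>
    cond (Nat.beq (e % 3) 0) (evp cs (e / 3) p)
      (cond (Nat.beq (e % 3) 1) (lk c (evp cs (e / 3) p)) (lk c (lk c (evp cs (e / 3) p))))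

/-- the entry `e` of a table of 16-bit fields -/
def lk16 (T e : ℕ) : ℕ := Nat.mod (Nat.shiftRight T (Nat.mul 16 e)) 65536

section

variable {n : ℕ} (hn : n ≤ 512) {P : Subgroup (Equiv.Perm (Fin n))}

include hn in
theorem el_enc : ∀ {gs : List ↥P} {cs : List ℕ}, RegsOK P gs cs → ∀ e : ℕ, enc n (elG gs e).1 = el n cs e := by
  intro gs cs h
  induction h with
  | nil => intro e; rw [elG, el, pone_eq]; rfl
  | @cons g c gs cs hd _ ih =>
    intro e
    rw [elG, el, ← ih (e / 3)]
    have h3 : e % 3 < 3 := Nat.mod_lt _ (by norm_num)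
    obtain h0 | h1 | h2 : e % 3 = 0 ∨ e % 3 = 1 ∨ e % 3 = 2 := by omega
    · rw [h0, pow_zero, one_mul]; rfl
    · rw [h1, pow_one, Subgroup.coe_mul, ← pmul_enc hn, hd]; rfl
    · rw [h2, pow_two, Subgroup.coe_mul, Subgroup.coe_mul, mul_assoc, ← pmul_enc hn, ← pmul_enc hn, hd]; rfl

include hn in
theorem evp_spec : ∀ {gs : List ↥P} {cs : List ℕ}, RegsOK P gs cs → ∀ (e p : ℕ) (hp : p < n),
    (((elG gs e).1 ⟨p, hp⟩ : Fin n) : ℕ) = evp cs e p := by
  intro gs cs h
  induction h with
  | nil => intro e p hp; rfl
  | @cons g c gs cs hd _ ih =>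
    intro e p hp
    rw [elG, evp, Subgroup.coe_mul, Equiv.Perm.mul_apply]
    have hq := ih (e / 3) p hp
    set q : Fin n := (elG gs (e / 3)).1 ⟨p, hp⟩ with hqdef
    have hlk : ∀ r : Fin n, ((g.1 r : Fin n) : ℕ) = lk c r := by
      intro r; rw [← hd, lk_enc_fin hn]
    have h3 : e % 3 < 3 := Nat.mod_lt _ (by norm_num)
    obtain h0 | h1 | h2 : e % 3 = 0 ∨ e % 3 = 1 ∨ e % 3 = 2 := by omega
    · rw [h0, pow_zero]
      show ((q : Fin n) : ℕ) = cond (Nat.beq 0 0) _ _
      rw [hq]; rfl
    · rw [h1, pow_one]
      show ((g.1 q : Fin n) : ℕ) = cond (Nat.beq 1 0) _ (cond (Nat.beq 1 1) _ _)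
      rw [hlk, hq]; rfl
    · rw [h2, pow_two, Subgroup.coe_mul, Equiv.Perm.mul_apply]
      show ((g.1 (g.1 q) : Fin n) : ℕ) = cond (Nat.beq 2 0) _ (cond (Nat.beq 2 1) _ _)
      rw [hlk, hlk, hq]; rfl

theorem elG_zero : ∀ gs : List ↥P, elG gs 0 = 1
  | [] => rfl
  | g :: gs => by rw [elG, Nat.zero_mod, pow_zero, one_mul, Nat.zero_div, elG_zero gs]

/-! ### the power and conjugation relations -/

/-- the conjugates of the later generators by the first are the given normal words in the later generators -/
def pcConj (n c ci : ℕ) (cs : List ℕ) : List ℕ → List ℕ → Bool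
  | [], [] => true
  | b :: bs, t :: ts =>
    Nat.blt t (3 ^ cs.length) && Nat.beq (pconj n c ci b) (el n cs t) && pcConj n c ci cs bs ts
  | _, _ => false

/-- the test of the power and conjugation relations -/
def pcOK (n : ℕ) : List ℕ → List ℕ → List (List ℕ) → Bool
  | [], _, _ => true
  | c :: cs, r :: rs, q :: qs =>
    Nat.blt r (3 ^ cs.length) && Nat.beq (ppow n c 3) (el n cs r) && pcConj n c (pinv n c) cs cs q &&
      pcOK n cs rs qs
  | _, _, _ => false

include hn in
theorem pcConj_sound {g : ↥P} {c : ℕ} (hg : enc n g.1 = c) {gs : List ↥P} {cs : List ℕ} (hgs : RegsOK P gs cs) :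
    ∀ {bs' : List ↥P} {bs ts : List ℕ}, RegsOK P bs' bs → pcConj n c (pinv n c) cs bs ts = true →
      ∀ b ∈ bs', g * b * g⁻¹ ∈ NF gs := by
  intro bs' bs ts h
  induction h generalizing ts with
  | nil => intro _ b hb; exact absurd hb List.not_mem_nil
  | @cons b0 c0 bs' bs hd _ ih =>
    intro hc b hb
    cases ts with
    | nil => simp [pcConj] at hc
    | cons t ts =>
      rw [pcConj, Bool.and_eq_true, Bool.and_eq_true] at hc
      obtain ⟨⟨h1, h2⟩, h3⟩ := hc
      rcases List.mem_cons.1 hb with rfl | hb
      · refine ⟨t, ?_, ?_⟩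
        · have := hgs.length_eq
          rw [this]
          simpa [Nat.blt] using h1
        · apply Subtype.ext
          apply enc_injective hn
          rw [el_enc hn hgs, ← Nat.eq_of_beq_eq_true h2, ← hg, ← hd, pinv_enc hn, pconj_enc hn]
          rfl
      · exact ih h3 b hb

include hn in
theorem pcOK_sound : ∀ {gs : List ↥P} {cs : List ℕ}, RegsOK P gs cs → ∀ {rs : List ℕ} {qs : List (List ℕ)},
    pcOK n cs rs qs = true → PCOK gs := by
  intro gs cs h
  induction h with
  | nil => intro _ _ _; trivial
  | @cons g c gs cs hd htl ih =>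
    intro rs qs hc
    cases rs with
    | nil => simp [pcOK] at hc
    | cons r rs =>
      cases qs with
      | nil => simp [pcOK] at hc
      | cons q qs =>
        rw [pcOK, Bool.and_eq_true, Bool.and_eq_true, Bool.and_eq_true] at hc
        obtain ⟨⟨⟨h1, h2⟩, h3⟩, h4⟩ := hc
        refine ⟨⟨r, ?_, ?_⟩, pcConj_sound hn hd htl htl h3, ih h4⟩
        · have := htl.length_eq
          rw [this]
          simpa [Nat.blt] using h1
        · apply Subtype.ext
          apply enc_injective hn
          rw [el_enc hn htl, ← Nat.eq_of_beq_eq_true h2, ← hd, Subgroup.coe_pow, ← ppow_enc hn]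

/-! ### the reduction of the elements of order 3 -/

theorem beq_false_of_ne {a b : ℕ} (h : a ≠ b) : Nat.beq a b = false := by
  cases hb : Nat.beq a b with
  | false => rfl
  | true => exact absurd (Nat.eq_of_beq_eq_true hb) h

/-- the test of the element with number `e`: the identity has number 0; an element marked 1 has a non-trivial cube;
an element marked 2 is one of the representatives; an element with a larger mark is conjugate by the move `MV e` to
the element with number `TGT e`, whose mark is smaller, but at least 2; for the first `ku` moves, which belong to the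
group, the conjugation is tested on the base points only -/
def qOK (n : ℕ) (cs ms reps cands bs : List ℕ) (ku N LAY MV TGT e : ℕ) : Bool :=
  strict (lk16 LAY e) fun l =>
  cond (Nat.beq l 0) (Nat.beq e 0)
    (cond (Nat.beq l 1)
      (cands.any fun p => Nat.blt p n && !(Nat.beq (evp cs e (evp cs e (evp cs e p))) p))
      (cond (Nat.beq l 2) (reps.contains e)
        (strict (lk16 TGT e) fun t => strict (ms.getD (lk16 MV e) 0) fun m =>
          Nat.blt t N && Nat.blt (lk16 MV e) ms.length && Nat.ble 2 (lk16 LAY t) &&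
          Nat.blt (lk16 LAY t) l &&
          cond (Nat.blt (lk16 MV e) ku)
            (bs.all fun p => Nat.beq (lk m (evp cs e p)) (evp cs t (lk m p)))
            (allB n fun p => Nat.beq (lk m (evp cs e p)) (evp cs t (lk m p))))))

variable {gs mgs : List ↥P} {cs ms : List ℕ}

include hn in
theorem good_of_qOK (hgs : RegsOK P gs cs) (hms : RegsOK P mgs ms) (Good : ↥P → Prop)
    (hconj : ∀ m x : ↥P, Good (m * x * m⁻¹) → Good x) {reps cands bs : List ℕ} {ku N LAY MV TGT : ℕ}
    (hfix : ∀ u ∈ Subgroup.closure {g | g ∈ gs}, (∀ p ∈ bs, ∀ hp : p < n, u.1 ⟨p, hp⟩ = ⟨p, hp⟩) → u = 1)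
    (hku : ∀ k < ku, mgs.getD k 1 ∈ Subgroup.closure {g | g ∈ gs})
    (hreps : ∀ e ∈ reps, Good (elG gs e))
    (hall : ∀ e < N, qOK n cs ms reps cands bs ku N LAY MV TGT e = true) :
    ∀ e < N, elG gs e ≠ 1 → elG gs e ^ 3 = 1 → Good (elG gs e) := by
  -- the elements with a mark at least 2
  have key : ∀ L : ℕ, ∀ e < N, 2 ≤ lk16 LAY e → lk16 LAY e ≤ L → Good (elG gs e) := by
    intro L
    induction L with
    | zero => intro e _ h2 h0; omega
    | succ L ih =>
      intro e he h2 hL
      have hq := hall e he
      rw [qOK, strict_eq] at hq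
      have c0 : Nat.beq (lk16 LAY e) 0 = false := beq_false_of_ne (by omega)
      have c1 : Nat.beq (lk16 LAY e) 1 = false := beq_false_of_ne (by omega)
      rw [c0, cond_false, c1, cond_false] at hq
      by_cases h22 : lk16 LAY e = 2
      · have c2 : Nat.beq (lk16 LAY e) 2 = true := by rw [h22]; rfl
        rw [c2, cond_true] at hq
        exact hreps e (List.contains_iff_mem.1 hq)
      · have c2 : Nat.beq (lk16 LAY e) 2 = false := beq_false_of_ne h22
        rw [c2, cond_false, strict_eq, strict_eq, Bool.and_eq_true, Bool.and_eq_true, Bool.and_eq_true,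
          Bool.and_eq_true] at hq
        obtain ⟨⟨⟨⟨ht, hm⟩, hl2⟩, hlt⟩, hpt⟩ := hq
        have ht' : lk16 TGT e < N := by simpa [Nat.blt] using ht
        have hm' : lk16 MV e < ms.length := by simpa [Nat.blt] using hm
        have hl2' : 2 ≤ lk16 LAY (lk16 TGT e) := by simpa [Nat.ble] using hl2
        have hlt' : lk16 LAY (lk16 TGT e) < lk16 LAY e := by simpa [Nat.blt] using hlt
        have hG := ih (lk16 TGT e) ht' hl2' (by omega)
        -- the move
        have hlen : mgs.length = ms.length := hms.length_eq
        have hm'' : lk16 MV e < mgs.length := by rw [hlen]; exact hm'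
        set m : ↥P := mgs.getD (lk16 MV e) 1 with hmdef
        have hmc : enc n m.1 = ms.getD (lk16 MV e) 0 := by
          have := hms.getD (lk16 MV e)
          rw [List.getD_eq_getElem _ _ hm'] at this ⊢
          exact this
        have hpoint : ∀ p : Fin n, Nat.beq (lk (ms.getD (lk16 MV e) 0) (evp cs e p.1))
            (evp cs (lk16 TGT e) (lk (ms.getD (lk16 MV e) 0) p.1)) = true →
            (m * elG gs e).1 p = (elG gs (lk16 TGT e) * m).1 p := by
          intro p hp0
          apply Fin.ext
          have hp := Nat.eq_of_beq_eq_true hp0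
          rw [Subgroup.coe_mul, Subgroup.coe_mul, Equiv.Perm.mul_apply, Equiv.Perm.mul_apply]
          have e1 : (((elG gs e).1 p : Fin n) : ℕ) = evp cs e p.1 := evp_spec hn hgs e p.1 p.2
          have e2 : ((m.1 p : Fin n) : ℕ) = lk (ms.getD (lk16 MV e) 0) p.1 := by
            rw [← hmc, lk_enc_fin hn]
          have e3 : ((m.1 ((elG gs e).1 p) : Fin n) : ℕ) = lk (ms.getD (lk16 MV e) 0) (evp cs e p.1) := by
            rw [← hmc, ← e1, lk_enc_fin hn]
          have e4 : (((elG gs (lk16 TGT e)).1 (m.1 p) : Fin n) : ℕ) =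
              evp cs (lk16 TGT e) (lk (ms.getD (lk16 MV e) 0) p.1) := by
            rw [← e2]
            exact evp_spec hn hgs (lk16 TGT e) (m.1 p).1 (m.1 p).2
          rw [e3, e4]
          exact hp
        have hcomm : m * elG gs e = elG gs (lk16 TGT e) * m := by
          by_cases hk : lk16 MV e < ku
          · have ck : Nat.blt (lk16 MV e) ku = true := by simpa [Nat.blt] using hk
            rw [ck, cond_true, List.all_eq_true] at hpt
            have hmU : m ∈ Subgroup.closure {g | g ∈ gs} := hku _ hk
            have hu : (elG gs (lk16 TGT e) * m)⁻¹ * (m * elG gs e) = 1 := by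
              apply hfix
              · exact Subgroup.mul_mem _ (Subgroup.inv_mem _ (Subgroup.mul_mem _ (elG_mem gs _) hmU))
                  (Subgroup.mul_mem _ hmU (elG_mem gs _))
              · intro p hp hpn
                have := hpoint ⟨p, hpn⟩ (hpt p hp)
                rw [Subgroup.coe_mul, Subgroup.coe_inv, Equiv.Perm.mul_apply, this, Equiv.Perm.inv_eq_iff_eq]
            exact (inv_mul_eq_one.1 hu).symm
          · have ck : Nat.blt (lk16 MV e) ku = false := by
              cases hb : Nat.blt (lk16 MV e) ku with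
              | false => rfl
              | true => exact absurd (by simpa [Nat.blt] using hb) hk
            rw [ck, cond_false, allB_iff] at hpt
            apply Subtype.ext
            apply Equiv.ext
            intro p
            exact hpoint p (hpt p.1 p.2)
        apply hconj m
        have : m * elG gs e * m⁻¹ = elG gs (lk16 TGT e) := by
          rw [hcomm, mul_inv_cancel_right]
        rw [this]
        exact hG
  intro e he hne h3
  have hq := hall e he
  rw [qOK, strict_eq] at hq
  by_cases h0 : lk16 LAY e = 0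
  · have c0 : Nat.beq (lk16 LAY e) 0 = true := by rw [h0]; rfl
    rw [c0, cond_true] at hq
    have : e = 0 := Nat.eq_of_beq_eq_true hq
    rw [this, elG_zero] at hne
    exact absurd rfl hne
  · have c0 : Nat.beq (lk16 LAY e) 0 = false := beq_false_of_ne h0
    rw [c0, cond_false] at hq
    by_cases h1 : lk16 LAY e = 1
    · have c1 : Nat.beq (lk16 LAY e) 1 = true := by rw [h1]; rfl
      rw [c1, cond_true, List.any_eq_true] at hq
      obtain ⟨p, _, hp⟩ := hq
      rw [Bool.and_eq_true] at hp
      obtain ⟨hpn, hp3⟩ := hp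
      have hpn' : p < n := by simpa [Nat.blt] using hpn
      exfalso
      have e1 : ∀ q : Fin n, (((elG gs e).1 q : Fin n) : ℕ) = evp cs e q.1 := fun q => evp_spec hn hgs e q.1 q.2
      have h3' : ((elG gs e ^ 3 : ↥P) : Equiv.Perm (Fin n)) ⟨p, hpn'⟩ = ⟨p, hpn'⟩ := by rw [h3]; rfl
      rw [Subgroup.coe_pow, pow_succ, pow_two, Equiv.Perm.mul_apply, Equiv.Perm.mul_apply] at h3'
      have h4 := congrArg Fin.val h3'
      rw [e1, e1, e1] at h4
      simp only at h4
      rw [h4] at hp3
      simp at hp3
    · exact key (lk16 LAY e) e he (by omega) le_rfl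

include hn in
/-- every element of order 3 of the group generated by the list is reduced to the representatives -/
theorem good_of_mem_closure [Finite ↥P] (hgs : RegsOK P gs cs) (hms : RegsOK P mgs ms) (Good : ↥P → Prop)
    (hconj : ∀ m x : ↥P, Good (m * x * m⁻¹) → Good x) {reps cands bs : List ℕ} {ku LAY MV TGT : ℕ}
    {rs : List ℕ} {qs : List (List ℕ)} (hpc : pcOK n cs rs qs = true)
    (hfix : ∀ u ∈ Subgroup.closure {g | g ∈ gs}, (∀ p ∈ bs, ∀ hp : p < n, u.1 ⟨p, hp⟩ = ⟨p, hp⟩) → u = 1)
    (hku : ∀ k < ku, mgs.getD k 1 ∈ Subgroup.closure {g | g ∈ gs})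
    (hreps : ∀ e ∈ reps, Good (elG gs e))
    (hall : ∀ e < 3 ^ cs.length, qOK n cs ms reps cands bs ku (3 ^ cs.length) LAY MV TGT e = true) :
    ∀ x ∈ Subgroup.closure {g | g ∈ gs}, x ≠ 1 → x ^ 3 = 1 → Good x := by
  intro x hx hne h3
  obtain ⟨e, he, rfl⟩ := closure_subset_NF gs (pcOK_sound hn hgs hpc) x hx
  rw [hgs.length_eq] at he
  exact good_of_qOK hn hgs hms Good hconj hfix hku hreps hall e he hne h3

include hn in
/-- the order of the group generated by the list, from above -/
theorem card_closure_le_of_pcOK [Finite ↥P] (hgs : RegsOK P gs cs) {rs : List ℕ} {qs : List (List ℕ)}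
    (hpc : pcOK n cs rs qs = true) : Nat.card (Subgroup.closure {g | g ∈ gs}) ≤ 3 ^ cs.length := by
  rw [← hgs.length_eq]
  exact card_closure_le gs (pcOK_sound hn hgs hpc)

include hn in
/-- the order of the group generated by the list, from below, by a chain of partial transversals of normal words -/
theorem card_closure_ge_of_chain (hgs : RegsOK P gs cs) (bs : List ℕ) (Es : List (List ℕ))
    (h : chainOK n [] bs (Es.map (List.map (el n cs))) = true) :
    (Es.map List.length).prod ≤ Nat.card (Subgroup.closure {g | g ∈ gs}) := by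
  have h1 := chain_sound hn ((Subgroup.closure {g | g ∈ gs}).map P.subtype) bs [] _ h ?_
  · rw [fixer_nil, Subgroup.card_map_of_injective P.subtype_injective] at h1
    refine le_trans (le_of_eq ?_) h1
    rw [List.map_map]
    congr 1
    apply List.map_congr_left
    intro E _
    simp
  · intro U hU c hc
    rw [List.mem_map] at hU
    obtain ⟨E, _, rfl⟩ := hU
    rw [List.mem_map] at hc
    obtain ⟨e, _, rfl⟩ := hc
    exact ⟨(elG gs e).1, ⟨elG gs e, elG_mem gs e, rfl⟩, el_enc hn hgs e⟩

end

/-- the chain with the order of the pointwise stabiliser of the base as a further factor -/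
theorem chain_sound_fixer {n : ℕ} (hn : n ≤ 512) (H : Subgroup (Equiv.Perm (Fin n))) :
    ∀ (bs fixed : List ℕ) (Us : List (List ℕ)), chainOK n fixed bs Us = true →
      (∀ U ∈ Us, ∀ c ∈ U, ∃ g ∈ H, enc n g = c) →
      (Us.map List.length).prod * Nat.card (fixer H (bs.reverse ++ fixed)) ≤ Nat.card (fixer H fixed) := by
  intro bs
  induction bs with
  | nil =>
    intro fixed Us h _
    cases Us with
    | nil =>
      rw [List.map_nil, List.prod_nil, one_mul, List.reverse_nil, List.nil_append]
    | cons U Us => simp [chainOK] at h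
  | cons b bs ih =>
    intro fixed Us h hc
    cases Us with
    | nil => simp [chainOK] at h
    | cons U Us =>
      rw [chainOK, Bool.and_eq_true, Bool.and_eq_true, Bool.and_eq_true, List.all_eq_true] at h
      obtain ⟨⟨⟨hb, hfix⟩, hnd⟩, hrest⟩ := h
      have hb' : b < n := by simpa [Nat.blt] using hb
      have ih' := ih (b :: fixed) Us hrest fun U' hU' => hc U' (List.mem_cons_of_mem _ hU')
      have hdec : ∀ c ∈ U, dec n c ∈ H ∧ enc n (dec n c) = c := by
        intro c hcU
        obtain ⟨g, hg, rfl⟩ := hc U List.mem_cons_self c hcU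
        rw [dec_enc hn]
        exact ⟨hg, rfl⟩
      have step := card_ge_step (fixer H fixed) (fixer H (b :: fixed)) ⟨b, hb'⟩ (U.map (dec n)) ?_ ?_ ?_
      · rw [List.map_cons, List.prod_cons, List.reverse_cons, List.append_assoc, List.singleton_append, mul_assoc]
        rw [List.length_map] at step
        exact le_trans (Nat.mul_le_mul_left _ ih') step
      · intro u hu
        rw [List.mem_map] at hu
        obtain ⟨c, hcU, rfl⟩ := hu
        refine ⟨(hdec c hcU).1, fun x hx hxn => Fin.ext ?_⟩
        rw [← lk_enc_fin hn, (hdec c hcU).2]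
        have := hfix c hcU
        rw [List.all_eq_true] at this
        exact Nat.eq_of_beq_eq_true (this x hx)
      · rw [List.map_map]
        have hnd' := nodupB_sound hnd
        refine (List.Nodup.of_map (fun y : Fin n => (y : ℕ)) ?_)
        rw [List.map_map]
        have : U.map ((fun y : Fin n => (y : ℕ)) ∘ ((fun u => u ⟨b, hb'⟩) ∘ dec n)) = U.map fun c => lk c b := by
          apply List.map_congr_left
          intro c hcU
          show ((dec n c ⟨b, hb'⟩ : Fin n) : ℕ) = lk c b
          rw [← lk_enc_fin hn, (hdec c hcU).2]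
        rw [this]
        exact hnd'
      · intro g
        rw [mem_fixer, mem_fixer]
        constructor
        · rintro ⟨hg, hx⟩
          exact ⟨⟨hg, fun x hx' h => hx x (List.mem_cons_of_mem _ hx') h⟩, hx b List.mem_cons_self hb'⟩
        · rintro ⟨⟨hg, hx⟩, hgb⟩
          refine ⟨hg, fun x hx' h => ?_⟩
          rcases List.mem_cons.1 hx' with rfl | hx''
          · exact hgb
          · exact hx x hx'' h

section

variable {n : ℕ} (hn : n ≤ 512) {P : Subgroup (Equiv.Perm (Fin n))} {gs : List ↥P} {cs : List ℕ}

include hn in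
/-- a chain of normal words whose lengths multiply to the upper bound for the order: the order is `3 ^ k` and an
element fixing the base points is trivial -/
theorem card_and_fix_of_chain [Finite ↥P] (hgs : RegsOK P gs cs) {rs : List ℕ} {qs : List (List ℕ)}
    (hpc : pcOK n cs rs qs = true) (bs : List ℕ) (Es : List (List ℕ))
    (h : chainOK n [] bs (Es.map (List.map (el n cs))) = true) (hprod : (Es.map List.length).prod = 3 ^ cs.length) :
    Nat.card (Subgroup.closure {g | g ∈ gs}) = 3 ^ cs.length ∧
      ∀ u ∈ Subgroup.closure {g | g ∈ gs}, (∀ p ∈ bs, ∀ hp : p < n, u.1 ⟨p, hp⟩ = ⟨p, hp⟩) → u = 1 := by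
  set U : Subgroup ↥P := Subgroup.closure {g | g ∈ gs} with hU
  have hle := card_closure_le_of_pcOK hn hgs hpc
  have h1 := chain_sound_fixer hn (U.map P.subtype) bs [] _ h ?_
  · have hlen : ((Es.map (List.map (el n cs))).map List.length).prod = 3 ^ cs.length := by
      rw [← hprod, List.map_map]
      congr 1
      apply List.map_congr_left
      intro E _
      simp
    rw [hlen, fixer_nil, Subgroup.card_map_of_injective P.subtype_injective, List.append_nil] at h1
    have hpos : 0 < Nat.card (fixer (U.map P.subtype) bs.reverse) := Nat.card_pos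
    have hpow : 0 < 3 ^ cs.length := by positivity
    have hF : Nat.card (fixer (U.map P.subtype) bs.reverse) = 1 := by
      have : 3 ^ cs.length * Nat.card (fixer (U.map P.subtype) bs.reverse) ≤ 3 ^ cs.length * 1 := by
        rw [mul_one]; exact le_trans h1 hle
      have := Nat.le_of_mul_le_mul_left this hpow
      omega
    refine ⟨le_antisymm hle ?_, ?_⟩
    · rw [hF, mul_one] at h1; exact h1
    · intro u hu hfix
      have hmem : u.1 ∈ fixer (U.map P.subtype) bs.reverse := by
        refine ⟨⟨u, hu, rfl⟩, fun x hx hxn => ?_⟩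
        exact hfix x (List.mem_reverse.1 hx) hxn
      have hbot : fixer (U.map P.subtype) bs.reverse = ⊥ := Subgroup.card_eq_one.1 hF
      rw [hbot, Subgroup.mem_bot] at hmem
      exact Subtype.ext hmem
  · intro V hV c hc
    rw [List.mem_map] at hV
    obtain ⟨E, _, rfl⟩ := hV
    rw [List.mem_map] at hc
    obtain ⟨e, _, rfl⟩ := hc
    exact ⟨(elG gs e).1, ⟨elG gs e, elG_mem gs e, rfl⟩, el_enc hn hgs e⟩

end

end Cfsg.Agent.Lib.Lead.O73C
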