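import Cfsg.Agent.Lib.Lead.O73C.Main
import Cfsg.Agent.Lib.Helper8.O73M
import Cfsg.Agent.Lib.Helper8.O73R
import Cfsg.Agent.Lib.Helper6.O73Iso

/-!
# The seven classes of subgroups of order 3 of `Ω₇(3)`

The model on 351 points is the image of the presented group `Q8`; the class function is the pair of the numbers of fixed
points on the 351 points and on the 3523 points of the auxiliary action; three of the representatives are given by words
in the generators, to evaluate them in the auxiliary action.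
-/

set_option autoImplicit false
set_option maxRecDepth 100000

namespace Cfsg.Agent.Lib.Lead.O73C

open Cfsg.Agent.PG Cfsg.Agent.Lib.Helper8 Cfsg.Agent.Lib.Helper8.FixCnt Cfsg.Agent.Lib.Helper6.Fi22Sub
  Cfsg.Agent.Lib.Helper6 Cfsg.Spor

/-- the word of a representative with no fixed point on the 351 points -/
def wd0 : List ℕ := [7, 3, 2, 6, 5, 4, 3, 2, 1, 2, 3, 4, 5, 6, 2, 3, 7, 6, 7, 6, 4, 2, 3, 1, 2, 6, 5, 4, 3, 2, 1, 0, 1, 2, 3, 4, 5, 6, 2, 1, 3, 2, 4, 6, 7, 6, 4, 3, 2, 1, 0, 1, 2, 3, 4, 2, 6, 7, 1, 2, 6, 3, 2, 1, 0, 1, 2, 3, 6, 2, 1, 7, 6, 2, 7, 6, 4, 2, 3, 1, 2, 6, 5, 4, 3, 2, 1, 0, 1, 2, 3, 4, 5, 6, 2, 1, 3, 2, 4, 6, 7, 3, 0, 1, 2, 6, 7, 4, 3, 2, 6, 5, 4, 3, 2, 1, 2, 3, 4, 5, 6, 2, 3, 4, 7, 6, 2, 1, 0, 2, 1, 2, 3, 6, 2, 6]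

/-- the word of a second representative with no fixed point on the 351 points -/
def wd4 : List ℕ := [6, 3, 4, 2, 3, 1, 2, 6, 5, 4, 3, 2, 1, 0, 1, 2, 3, 4, 5, 6, 2, 1, 3, 2, 4, 3, 6, 7, 6, 3, 2, 3, 6, 7, 4, 3, 2, 3, 4, 5, 2, 6, 7, 2, 3, 1, 2, 6, 4, 3, 2, 1, 0, 1, 2, 3, 4, 6, 2, 1, 3, 2, 7, 6, 2, 7, 6, 4, 3, 2, 1, 0, 1, 2, 3, 4, 6, 7, 4, 2, 3, 1, 2, 6, 5, 4, 3, 2, 1, 0, 1, 2, 3, 4, 5, 6, 2, 1, 3, 2, 4, 3, 2, 6, 7, 4, 3, 2, 6, 5, 4, 3, 2, 1, 2, 3, 4, 5, 6, 2, 3, 4, 7, 6, 2, 3]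

/-- the word of a third representative with no fixed point on the 351 points -/
def wd5 : List ℕ := [6, 3, 4, 2, 3, 1, 2, 6, 5, 4, 3, 2, 1, 0, 1, 2, 3, 4, 5, 6, 2, 1, 3, 2, 4, 3, 6, 7, 6, 3, 2, 3, 6, 7, 4, 3, 2, 3, 4, 5, 6, 3, 4, 2, 3, 1, 2, 6, 5, 4, 3, 2, 1, 0, 1, 2, 3, 4, 5, 6, 2, 1, 3, 2, 4, 3, 6, 7, 6, 3, 2, 3, 6, 7, 4, 3, 2, 3, 4, 5, 2, 6, 7, 2, 3, 1, 2, 6, 4, 3, 2, 1, 0, 1, 2, 3, 4, 6, 2, 1, 3, 2, 7, 6, 2, 7, 6, 4, 3, 2, 1, 0, 1, 2, 3, 4, 6, 7, 4, 2, 3, 1, 2, 6, 5, 4, 3, 2, 1, 0, 1, 2, 3, 4, 5, 6, 2, 1, 3, 2, 4, 3, 2, 6, 7, 4, 3, 2, 6, 5, 4, 3, 2, 1, 2, 3, 4, 5, 6, 2, 3, 4, 7, 6, 2, 3]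

/-- the element of the presented group of a word -/
noncomputable def wordQ (w : List ℕ) : Q8 := (w.map fun x => (PresentedGroup.of (Fi22Q8oTC.gen x) : Q8)).prod

theorem cgs_eq : O73M.cgs = cgD := by decide +kernel

theorem chk_wd : (wd0 ++ wd4 ++ wd5).all (fun x => decide (x < 8)) = true := by decide

theorem chk_wd0 : el 351 cA (repsD.getD 0 0) = O73M.wcode wd0 := by decide +kernel

theorem chk_wd4 : el 351 cA (repsD.getD 4 0) = O73M.wcode wd4 := by decide +kernel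

theorem chk_wd5 : el 351 cA (repsD.getD 5 0) = O73M.wcode wd5 := by decide +kernel

/-- the numbers of the fixed points of the representatives on the 351 points -/
theorem chk_fix : repsD.map (fun e => cntFixG 351 (el 351 cA e)) = [0, 36, 9, 45, 0, 0, 27] := by decide +kernel

/-- the numbers of the fixed points of the representatives on the 351 points, by their numbers -/
theorem chk_fix' : ∀ i : Fin 7, cntFixG 351 (el 351 cA (repsD.getD i 0)) =
    ([0, 36, 9, 45, 0, 0, 27] : List ℕ).getD i 0 := by decide +kernel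

instance finiteP : Finite ↥O73M.P := Nat.finite_of_card_ne_zero (by rw [O73M.card_P]; norm_num)

theorem regs_gens : RegsOK O73M.P O73M.gensP cgD := cgs_eq ▸ O73M.regs_ok

/-- the class function: the numbers of the fixed points on the 351 points and in the auxiliary action -/
noncomputable def inv2 (x : ↥O73M.P) : ℕ × ℕ :=
  (Fintype.card (Function.fixedPoints (x : Equiv.Perm (Fin 351))), O73R.nfix (O73M.isoP.symm x))

theorem inv2_conj (g x : ↥O73M.P) : inv2 (g * x * g⁻¹) = inv2 x := by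
  unfold inv2
  refine Prod.ext ?_ ?_
  · exact card_fixedPoints_conj (g : Equiv.Perm (Fin 351)) (x : Equiv.Perm (Fin 351))
  · show O73R.nfix (O73M.isoP.symm (g * x * g⁻¹)) = O73R.nfix (O73M.isoP.symm x)
    rw [map_mul, map_mul, map_inv]
    exact O73R.nfix_conj _ _

theorem inv2_inv (x : ↥O73M.P) : inv2 x⁻¹ = inv2 x := by
  unfold inv2
  refine Prod.ext ?_ ?_
  · exact card_fixedPoints_inv (x : Equiv.Perm (Fin 351))
  · show O73R.nfix (O73M.isoP.symm x⁻¹) = O73R.nfix (O73M.isoP.symm x)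
    rw [map_inv]
    exact O73R.nfix_inv _

theorem enc_rep (i : Fin 7) :
    enc 351 (repP O73M.gensP i : Equiv.Perm (Fin 351)) = el 351 cA (repsD.getD i 0) :=
  el_enc O73M.hn (regs_roots regs_gens) _

theorem fst_inv2 (i : Fin 7) : (inv2 (repP O73M.gensP i)).1 = ([0, 36, 9, 45, 0, 0, 27] : List ℕ).getD i 0 := by
  show Fintype.card (Function.fixedPoints (repP O73M.gensP i : Equiv.Perm (Fin 351))) = _
  rw [O73M.card_fixedPoints, enc_rep, chk_fix']

/-- a representative whose code is that of a word is the image of the word -/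
theorem rep_word {j : Fin 7} {w : List ℕ} (hw : ∀ x ∈ w, x < 8)
    (hc : el 351 cA (repsD.getD j 0) = O73M.wcode w) : repP O73M.gensP j = O73M.isoP (wordQ w) := by
  apply Subtype.ext
  apply enc_injective O73M.hn
  rw [enc_rep, hc, O73M.isoP_apply, ← O73M.enc_word]
  congr 1
  rw [wordQ, map_list_prod, List.map_map]
  congr 1
  apply List.map_congr_left
  intro x hx
  show O73M.gp x = O73M.φ (PresentedGroup.of (Fi22Q8oTC.gen x))
  rw [O73M.φ_of, O73M.fgen_gen (hw x hx)]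

theorem snd_inv2 {j : Fin 7} {w : List ℕ} (hw : ∀ x ∈ w, x < 8)
    (hc : el 351 cA (repsD.getD j 0) = O73M.wcode w) : (inv2 (repP O73M.gensP j)).2 = O73R.nfix (wordQ w) := by
  show O73R.nfix (O73M.isoP.symm (repP O73M.gensP j)) = _
  rw [rep_word hw hc, MulEquiv.symm_apply_apply]

theorem wd_lt : ∀ x ∈ wd0 ++ wd4 ++ wd5, x < 8 := fun x hx =>
  of_decide_eq_true (List.all_eq_true.1 chk_wd x hx)

/-- the model has exactly seven classes of subgroups of order 3, given the three numbers of fixed points in the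
auxiliary action -/
theorem sevenClasses_P (h0 : O73R.nfix (wordQ wd0) = 4) (h4 : O73R.nfix (wordQ wd4) = 40)
    (h5 : O73R.nfix (wordQ wd5) = 13) : SevenClasses ↥O73M.P := by
  have s0 : (inv2 (repP O73M.gensP 0)).2 = 4 := by
    rw [snd_inv2 (j := 0) (w := wd0) (fun x hx => wd_lt x (by simp [hx])) chk_wd0, h0]
  have s4 : (inv2 (repP O73M.gensP 4)).2 = 40 := by
    rw [snd_inv2 (j := 4) (w := wd4) (fun x hx => wd_lt x (by simp [hx])) chk_wd4, h4]
  have s5 : (inv2 (repP O73M.gensP 5)).2 = 13 := by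
    rw [snd_inv2 (j := 5) (w := wd5) (fun x hx => wd_lt x (by simp [hx])) chk_wd5, h5]
  have hsnd : ∀ i : Fin 7, ([0, 36, 9, 45, 0, 0, 27] : List ℕ).getD i 0 = 0 →
      (inv2 (repP O73M.gensP i)).2 = ([4, 0, 0, 0, 40, 13, 0] : List ℕ).getD i 0 := by
    intro i hi
    fin_cases i
    · exact s0
    · exact absurd hi (by decide)
    · exact absurd hi (by decide)
    · exact absurd hi (by decide)
    · exact s4
    · exact s5
    · exact absurd hi (by decide)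
  have hdec : ∀ i j : Fin 7, ([0, 36, 9, 45, 0, 0, 27] : List ℕ).getD i 0 = ([0, 36, 9, 45, 0, 0, 27] : List ℕ).getD j 0 →
      (([0, 36, 9, 45, 0, 0, 27] : List ℕ).getD i 0 = 0 →
        ([4, 0, 0, 0, 40, 13, 0] : List ℕ).getD i 0 = ([4, 0, 0, 0, 40, 13, 0] : List ℕ).getD j 0) → i = j := by
    decide
  refine sevenClasses_of_model O73M.card_P regs_gens inv2 inv2_conj inv2_inv ?_
  intro i j h
  have hf := congrArg Prod.fst h
  have hs := congrArg Prod.snd h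
  rw [fst_inv2, fst_inv2] at hf
  apply hdec i j hf
  intro hi
  have hj : ([0, 36, 9, 45, 0, 0, 27] : List ℕ).getD j 0 = 0 := by rw [← hf]; exact hi
  rw [← hsnd i hi, ← hsnd j hj]
  exact hs

end Cfsg.Agent.Lib.Lead.O73C
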