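import Cfsg.Agent.Lib.Lead.O73C.Chk

/-!
# The seven classes of subgroups of order 3 in a group of permutations of 351 points with the given generators

For a group `P` of permutations of the 351 points of order `4585351680` containing the eight generators (given by
their codes), and a class function on `P`, invariant under inversion, which separates the seven representatives: `P` has
exactly seven classes of subgroups of order 3.
-/

set_option autoImplicit false

namespace Cfsg.Agent.Lib.Lead.O73C

open Cfsg.Agent.PG

section

variable {P : Subgroup (Equiv.Perm (Fin 351))}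

/-- the twelve moves -/
noncomputable def movesP (gens : List ↥P) : List ↥P := (runM prog gens).take 12

/-- the nine root elements -/
noncomputable def rootsP (gens : List ↥P) : List ↥P := (runM prog gens).take 9

/-- the seven representatives -/
noncomputable def repP (gens : List ↥P) (i : Fin 7) : ↥P := elG (rootsP gens) (repsD.getD i 0)

theorem regs_moves {gens : List ↥P} (hg : RegsOK P gens cgD) : RegsOK P (movesP gens) cM := by
  have h := List.forall₂_take 12 (RegsOK.run (n := 351) (by norm_num) (is := prog) hg)
  rw [chk_slp] at h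
  exact h

theorem rootsP_eq (gens : List ↥P) : rootsP gens = (movesP gens).take 9 := by
  rw [rootsP, movesP, List.take_take]
  rfl

theorem regs_roots {gens : List ↥P} (hg : RegsOK P gens cgD) : RegsOK P (rootsP gens) cA := by
  have h := List.forall₂_take 9 (regs_moves hg)
  rw [chk_take, ← rootsP_eq] at h
  exact h

theorem sevenClasses_of_model [Finite ↥P] (hcard : Nat.card ↥P = 4585351680) {gens : List ↥P}
    (hg : RegsOK P gens cgD) {ι : Type*} (I : ↥P → ι) (hconj : ∀ g x : ↥P, I (g * x * g⁻¹) = I x)
    (hinv : ∀ x : ↥P, I x⁻¹ = I x) (hI : ∀ i j : Fin 7, I (repP gens i) = I (repP gens j) → i = j) :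
    SevenClasses ↥P := by
  have hn : (351 : ℕ) ≤ 512 := by norm_num
  have hgs := regs_roots hg
  have hms := regs_moves hg
  set gs := rootsP gens with hgsdef
  set mgs := movesP gens with hmgsdef
  have hlen9 : gs.length = 9 := by rw [hgs.length_eq]; rfl
  obtain ⟨hUcard, hfix⟩ := card_and_fix_of_chain hn hgs chk_pc chainB chainE chk_chain chk_prod
  have hUcard' : Nat.card (Subgroup.closure {g | g ∈ gs}) = 3 ^ 9 := hUcard
  -- the first nine moves are the root elements
  have hku : ∀ k < 9, mgs.getD k 1 ∈ Subgroup.closure {g | g ∈ gs} := by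
    intro k hk
    apply Subgroup.subset_closure
    show mgs.getD k 1 ∈ gs
    have hk' : k < gs.length := by rw [hlen9]; exact hk
    have hlen12 : mgs.length = 12 := by rw [hms.length_eq]; rfl
    have e1 : gs = mgs.take 9 := rootsP_eq gens
    have : mgs.getD k 1 = gs[k] := by
      rw [List.getD_eq_getElem _ _ (by rw [hlen12]; omega)]
      simp only [e1, List.getElem_take]
    rw [this]
    exact List.getElem_mem _
  let Good : ↥P → Prop := fun x => ∃ i : Fin 7, ∃ g : ↥P, g * x * g⁻¹ = repP gens i
  have hGconj : ∀ m x : ↥P, Good (m * x * m⁻¹) → Good x := by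
    rintro m x ⟨i, g, hgx⟩
    refine ⟨i, g * m, ?_⟩
    rw [← hgx]; group
  have hreps : ∀ e ∈ repsD, Good (elG gs e) := by
    intro e he
    obtain ⟨i, hi, rfl⟩ := List.getElem_of_mem he
    have hi7 : i < 7 := hi
    refine ⟨⟨i, hi7⟩, 1, ?_⟩
    rw [one_mul, inv_one, mul_one, repP]
    congr 1
    exact (List.getD_eq_getElem _ _ hi).symm
  have hgood := good_of_mem_closure hn hgs hms Good hGconj chk_pc hfix hku hreps chk_q
  -- the representatives have order 3
  have hrep3 : ∀ i : Fin 7, orderOf (repP gens i) = 3 := by
    intro i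
    have hi : (i : ℕ) < repsD.length := i.2
    have hmem : repsD.getD i 0 ∈ repsD := by
      rw [List.getD_eq_getElem _ _ hi]; exact List.getElem_mem _
    have h := List.all_eq_true.1 chk_reps _ hmem
    rw [Bool.and_eq_true] at h
    obtain ⟨h1, h2⟩ := h
    have hc : enc 351 (repP gens i).1 = el 351 cA (repsD.getD i 0) := el_enc hn hgs _
    have hp : Fact (Nat.Prime 3) := ⟨by norm_num⟩
    apply orderOf_eq_prime
    · exact pow_eq_one_of_code hn hc (Nat.eq_of_beq_eq_true h1)
    · intro h1'
      rw [h1'] at hc
      have : el 351 cA (repsD.getD i 0) = pone 351 := by rw [← hc, pone_eq]; rfl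
      rw [this] at h2
      simp at h2
  apply sevenClasses_of_invariant I hconj hinv (repP gens) hI hrep3
  intro x hx
  have hp : Fact (Nat.Prime 3) := ⟨by norm_num⟩
  obtain ⟨g, hgU⟩ := exists_conj_mem_of_card 3 9 232960 (Subgroup.closure {g | g ∈ gs}) hUcard'
    (by rw [hcard]; norm_num) (by norm_num) x hx
  have hne : g * x * g⁻¹ ≠ 1 := by
    intro h
    have : x = 1 := by
      have := congrArg (fun z => g⁻¹ * z * g) h
      simpa [mul_assoc] using this
    rw [this, orderOf_one] at hx
    norm_num at hx
  have h3 : (g * x * g⁻¹) ^ 3 = 1 := by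
    rw [conj_pow, ← hx, pow_orderOf_eq_one]
    group
  obtain ⟨i, h, hh⟩ := hgood _ hgU hne h3
  refine ⟨i, h * g, ?_⟩
  rw [← hh]; group

end

end Cfsg.Agent.Lib.Lead.O73C
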